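import Cfsg.Agent.Lib.Chevalley.Table

/-!
Packed tables of the Chevalley datum of type B2 (data, validated by the checks of `Cert.B2`).
-/

set_option autoImplicit false

namespace Cfsg.Agent.Chevalley.Data.B2

open Cfsg.Agent.Chevalley.Table

def row0 : Row := ⟨7, 16446, 16191, 0xe03000012020000000000000000000000000000000000000000, 0x3ffffffdf, 1, 3⟩
def row1 : Row := ⟨6, 16192, 15935, 0x12040e060000000000000c041201120300000000000014010000000000000000, 0x3ffffffef, 3, 513⟩
def row2 : Row := ⟨5, 16702, 16447, 0xe05120700000c0500000000000000000e0112020000000000000c0100000000, 0x3fffffff0, 1, 261⟩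
def row3 : Row := ⟨4, 15938, 16192, 0x120600000000000000000000000000000e020000000000000000, 0x3ffffffff, 3, 1024⟩
def row4 : Row := ⟨3, 16958, 16704, 0x120700000000000000000000000000000e0300000000, 0x400000001, 3, 775⟩
def row5 : Row := ⟨2, 16194, 16449, 0x1408000000000e080e070000000000000000000014040e040e02, 0x400000010, 1, 1538⟩
def row6 : Row := ⟨1, 16704, 16961, 0xc080000000012080e06000014050000000012051203, 0x400000011, 3, 1286⟩
def row7 : Row := ⟨0, 16450, 16705, 0xe070000120600000000, 0x400000021, 1, 1796⟩
def part0_8 : RTree := (.node 4 (.node 2 (.node 1 (.leaf row0) (.leaf row1)) (.node 1 (.leaf row2) (.leaf row3))) (.node 2 (.node 1 (.leaf row4) (.leaf row5)) (.node 1 (.leaf row6) (.leaf row7))))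

/-- The packed tables. -/
def tab : Tab := ⟨8, 2, 32, 0x405, part0_8⟩

end Cfsg.Agent.Chevalley.Data.B2
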