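import Cfsg.Agent.Lib.Chevalley.Twist.Enum

/-! A transversal of the fixed Weyl group for TW3D4 (data, validated by a check). -/

set_option autoImplicit false

namespace Cfsg.Agent.Chevalley.Data.TW3D4

open Cfsg.Agent.Chevalley.WeylEnum

/-- Block 0. -/
def blk0 : List Rep := [
  ⟨10, 1, 0x10002030504060a0b0e07080f10090c0d11131214151716, 11, 0xa0002⟩,
  ⟨11, 1, 0x16090c0d11041214151707080f100002030513060a0b0e01, 4, 0xb0006⟩,
  ⟨8, 1, 0x102030405060708090a0b0c0d0e0f1011121314151617, 12, 0x80000⟩,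
  ⟨9, 1, 0x170e0f101105131415160a0b0c0d01020304120607080900, 3, 0x90007⟩,
  ⟨6, 1, 0x90008071206040d0c1603021514010b0a131105100f170e, 8, 0x60008⟩,
  ⟨7, 1, 0xe010b0a130605100f17030215140008071211040d0c1609, 7, 0x7000a⟩,
  ⟨1, 0, 0x9160c0d04111207080014150203170f100506130a0b010e, 5, 0x40001⟩,
  ⟨3, 0, 0xe170f100511130a0b0114150203160c0d04061207080009, 4, 0x50003⟩,
  ⟨4, 0, 0x908070612040302010d0c0b0a161514130511100f0e17, 9, 0x20004⟩,
  ⟨0, 0, 0x17161514131211100f0e0d0c0b0a09080706050403020100, 0, 0x3000b⟩,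
  ⟨5, 0, 0x10e0b0a061305030200100f08071715141204110d0c0916, 8, 0x5⟩,
  ⟨9, 0, 0x161715141213110d0c09100f08070e0b0a06040503020001, 1, 0x10009⟩]

/-- All blocks. -/
def blocks : List (List Rep) := [blk0]

end Cfsg.Agent.Chevalley.Data.TW3D4
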