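import Cfsg.Agent.Lib.Chevalley.Twist.Enum

/-! A transversal of the fixed Weyl group for TW2F4 (data, validated by a check). -/

set_option autoImplicit false

namespace Cfsg.Agent.Chevalley.Data.TW2F4

open Cfsg.Agent.Chevalley.WeylEnum

/-- Block 0. -/
def blk0 : List Rep := [
  ⟨14, 0, 0x112a18130f011624210a2607220c082b1a2f142c1d1029022d061f12031b00150427230d2809250e0b192e201c17051e, 12, 0xd000e⟩,
  ⟨15, 0, 0x51e170b0400151c0e0925031b120820192e0d2823061f022d10290c072201160f271d142c0a2621131a2f2b2418112a, 14, 0xa000f⟩,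
  ⟨12, 0, 0x1e2e201c17051928250e270b230d092d1f2f1b2c1d1529042b061a12031400100226220c2408210a07162a18130f0111, 8, 0xf000c⟩,
  ⟨13, 0, 0x1110f07020010130a08210314120918162a0c2422061a042b15290d0b23051917261d1b2c0e27251c1f2f2d28201e2e, 18, 0x8000d⟩,
  ⟨10, 0, 0x504030201060b09080e070d0c0a17151e121c1b10190f20161f14131d111a182523222821272624292e2d2c2b2a2f, 20, 0x6000a⟩,
  ⟨11, 0, 0x2a2f2b2418111a2c262127131d140a2d292e222823161f0f2010190c070d010602251b121c080e0903151e170b040005, 6, 0xe000b⟩,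
  ⟨4, 1, 0x102030405060708090a0b0c0d0e0f101112131415161718191a1b1c1d1e1f202122232425262728292a2b2c2d2e2f, 24, 0x40008⟩,
  ⟨9, 0, 0x2e2f2d28201e1f2c2725261c1d1b0e2b292a232422191a171815160d0b0c05060421141213090a080310110f07020001, 2, 0xc0009⟩,
  ⟨3, 1, 0x10002070f111003080a09131214210406050c0b0d161518171a192224232a292b0e1b1d1c2625272c1f1e20282d2f2e, 22, 0x30006⟩,
  ⟨0, 0, 0x2f2e2d2c2b2a292827262524232221201f1e1d1c1b1a191817161514131211100f0e0d0c0b0a09080706050403020100, 0, 0xb0007⟩,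
  ⟨1, 1, 0x500040b171e1503090e081c121b250206010d070c1910200f1f162328222e292d0a141d132721262c1a1118242b2f2a, 18, 0x10004⟩,
  ⟨9, 1, 0x2f2a2b2c2d2e292426272128222325181a111d13141f16200f19101b1c121e15170a0c0d070e08090b06010203040500, 4, 0x90005⟩,
  ⟨7, 1, 0x2e1e20282d2f1f1c25270e2c1b1d26171905230b0d29152b041a0622240c2a16180912140321080a13100002070f1101, 6, 0x70002⟩,
  ⟨0, 1, 0x11010f13182a16070a2108240c22260210001403121a062b0429151d2c1b2f1f2d090d230b270e25281905171c202e1e, 16, 0x3⟩,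
  ⟨5, 1, 0x2a1118242b2f1a1321260a2c141d270f160122070c29102d021f0623280d2e192008121b0325090e1c1500040b171e05, 10, 0x50000⟩,
  ⟨2, 1, 0x1e05171c202e190b0e2509280d23270415001b03121f062d0229101d2c142f1a2b080c2207260a212416010f13182a11, 12, 0x20001⟩]

/-- All blocks. -/
def blocks : List (List Rep) := [blk0]

end Cfsg.Agent.Chevalley.Data.TW2F4
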