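import Cfsg.Agent.Lib.Chevalley.Table

/-!
Packed tables of the Chevalley datum of type G2 (data, validated by the checks of `Cert.G2`).
-/

set_option autoImplicit false

namespace Cfsg.Agent.Chevalley.Data.G2

open Cfsg.Agent.Chevalley.Table

def row0 : Row := ⟨11, 16192, 15935, 0xe06000000000e04000000001203000000000000000000001202000000000000000000000000000000000000000000000000000000000000000000000000, 0x3ffffffce, 2, 256⟩
def row1 : Row := ⟨10, 16701, 16191, 0xe07000000000000000000000e05000000000000000000001203000000000000000000001201000000000000000000000000000000000000000000000000000000000000, 0x3ffffffcf, 1, 5⟩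
def row2 : Row := ⟨9, 16447, 15678, 0xe020e050e09120112040e0800000000000000001602140500000a010c04000000000000000000000000000000001602000000001601000000000000000000000000000000000000, 0x3ffffffdf, 1, 515⟩
def row3 : Row := ⟨8, 16193, 15679, 0xe061208120a00000000000000000a061408000000000000000000000a0612010e031205000000000000000016010c03000000000000000000000a01000000000000000000000000, 0x3ffffffef, 2, 1026⟩
def row4 : Row := ⟨7, 16702, 16447, 0x12070e09120a000016070c09000000000a070000000000000000000000000e021203120400000000000000000a021403000000000a02000000000000000000000000, 0x3fffffff0, 1, 775⟩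
def row5 : Row := ⟨6, 15939, 16192, 0x120b000000000000000000000000000000001208000000000000000000000000000000000000000000000e04000000000000000000000000000000000e01000000000000, 0x3ffffffff, 2, 1537⟩
def row6 : Row := ⟨5, 16957, 16704, 0x120c000000000000000000000000000000001209000000000000000000000000000000000000000000000e05000000000000000000000000000000000e02, 0x400000001, 2, 1290⟩
def row7 : Row := ⟨4, 16194, 16449, 0x160b00000a0b0c0a000000000000120b120a0e090000000000000000000000000000000016060000160614040e060e040e03000000000000, 0x400000010, 1, 2052⟩
def row8 : Row := ⟨3, 16703, 17217, 0x160c0000000000000000160c140a0000000000000e0c0e0a0e0800000000160700000000000000000a070c05000000000000120712050e03, 0x400000011, 2, 1801⟩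
def row9 : Row := ⟨2, 16449, 17218, 0xa0c000000000a0b00000000000000000000000000000a0c14090000160b0c080000000000000e0c12091205120b0e081204, 0x400000021, 1, 2312⟩
def row10 : Row := ⟨1, 16195, 16705, 0xe0c000000000000000000000e0a000000000000000000001208000000000000000000001206, 0x400000031, 1, 2822⟩
def row11 : Row := ⟨0, 16704, 16961, 0xe0b000000000000000000000e0a000000001209000000001207000000000000, 0x400000032, 2, 2571⟩
def part0_12 : RTree := (.node 6 (.node 3 (.node 1 (.leaf row0) (.node 1 (.leaf row1) (.leaf row2))) (.node 1 (.leaf row3) (.node 1 (.leaf row4) (.leaf row5)))) (.node 3 (.node 1 (.leaf row6) (.node 1 (.leaf row7) (.leaf row8))) (.node 1 (.leaf row9) (.node 1 (.leaf row10) (.leaf row11)))))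

/-- The packed tables. -/
def tab : Tab := ⟨12, 2, 48, 0x607, part0_12⟩

end Cfsg.Agent.Chevalley.Data.G2
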