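import Cfsg.Agent.Lib.Chevalley.Twist.Enum

/-! A transversal of the fixed Weyl group for TW2G2 (data, validated by a check). -/

set_option autoImplicit false

namespace Cfsg.Agent.Chevalley.Data.TW2G2

open Cfsg.Agent.Chevalley.WeylEnum

/-- Block 0. -/
def blk0 : List Rep := [
  ⟨1, 0, 0x102030405060708090a0b, 6, 0x1⟩,
  ⟨0, 0, 0xb0a09080706050403020100, 0, 0x0⟩]

/-- All blocks. -/
def blocks : List (List Rep) := [blk0]

end Cfsg.Agent.Chevalley.Data.TW2G2
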