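import Cfsg.Agent.Lib.Chevalley.WeylEnum

/-!
Minimal coset representatives along a chain of parabolic subgroups, type B2 (data, validated by the
checks of `Types.WB2`).
-/

set_option autoImplicit false

namespace Cfsg.Agent.Chevalley.Data.WB2

open Cfsg.Agent.Chevalley.WeylEnum

def rep1_0 : Rep := ⟨0, 0, 0x706050403020100, 0, 0x1⟩
def rep1_1 : Rep := ⟨0, 1, 0x705060304010200, 1, 0x0⟩
def part1_0 : List Rep := [rep1_0, rep1_1]

/-- Step 1. -/
def lev1 : Lev := ⟨[1], 0x0, part1_0⟩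

def rep2_0 : Rep := ⟨0, 0, 0x706050403020100, 0, 0x10004⟩
def rep2_1 : Rep := ⟨0, 0, 0x406020700050103, 1, 0x2⟩
def rep2_2 : Rep := ⟨1, 1, 0x305010700060204, 2, 0x30001⟩
def rep2_3 : Rep := ⟨2, 0, 0x2010403060507, 3, 0x20004⟩
def part2_0 : List Rep := [rep2_0, rep2_1, rep2_2, rep2_3]

/-- Step 2. -/
def lev2 : Lev := ⟨[1, 0], 0x18, part2_0⟩

/-- The chain, top step first. -/
def chain : List Lev := [lev2, lev1]

end Cfsg.Agent.Chevalley.Data.WB2
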