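import Cfsg.Agent.Lib.Chevalley.WeylEnum

/-!
Minimal coset representatives along a chain of parabolic subgroups, type D4 (data, validated by the
checks of `Types.WD4`).
-/

set_option autoImplicit false

namespace Cfsg.Agent.Chevalley.Data.WD4

open Cfsg.Agent.Chevalley.WeylEnum

def rep1_0 : Rep := ⟨0, 0, 0x17161514131211100f0e0d0c0b0a09080706050403020100, 0, 0x1⟩
def rep1_1 : Rep := ⟨0, 3, 0x17151613141210110e0f0d0b0c0a08090607050304010200, 1, 0x0⟩
def part1_0 : List Rep := [rep1_0, rep1_1]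

/-- Step 1. -/
def lev1 : Lev := ⟨[3], 0x0, part1_0⟩

def rep2_0 : Rep := ⟨0, 0, 0x17161514131211100f0e0d0c0b0a09080706050403020100, 0, 0x10003⟩
def rep2_1 : Rep := ⟨0, 1, 0x161715141213110d0c09100f08070e0b0a06040503020001, 1, 0x2⟩
def rep2_2 : Rep := ⟨1, 3, 0x151716131214100d0b08110e09060f0c0a07030504010002, 2, 0x30001⟩
def part2_0 : List Rep := [rep2_0, rep2_1, rep2_2]

/-- Step 2. -/
def lev2 : Lev := ⟨[3, 1], 0x1800, part2_0⟩

def rep3_0 : Rep := ⟨0, 0, 0x17161514131211100f0e0d0c0b0a09080706050403020100, 0, 0x100050004⟩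
def rep3_1 : Rep := ⟨0, 2, 0x1714131615120f0e11100a0c0b0d07060908050201040300, 1, 0x20004⟩
def rep3_2 : Rep := ⟨1, 1, 0x1614121715130c09110d070f08100a060e0b040200050301, 2, 0x500010003⟩
def rep3_3 : Rep := ⟨2, 3, 0x1513121716140b08100d060e09110a070f0c030100050402, 3, 0x500040002⟩
def part3_0 : List Rep := [rep3_0, rep3_1, rep3_2, rep3_3]

/-- Step 3. -/
def lev3 : Lev := ⟨[3, 1, 2], 0xdb00, part3_0⟩

def rep4_0 : Rep := ⟨0, 0, 0x17161514131211100f0e0d0c0b0a09080706050403020100, 0, 0x1000a00090008⟩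
def rep4_1 : Rep := ⟨0, 0, 0x1711100f0e05161514130d0c0b0a04030201120908070600, 1, 0xa00020008⟩
def rep4_2 : Rep := ⟨1, 1, 0x16110d0c090417151412100f080705030200130e0b0a0601, 2, 0x9000400010003⟩
def rep4_3 : Rep := ⟨2, 3, 0x15100d0b080317161312110e090605040100140f0c0a0702, 3, 0x9000500080002⟩
def rep4_4 : Rep := ⟨2, 2, 0x140f0a0c0702171316120e1106090501040015100b0d0803, 3, 0x90002000a0005⟩
def rep4_5 : Rep := ⟨3, 2, 0x130e0a0b0601171415120f1007080502030016110c0d0904, 4, 0x9000300060004⟩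
def rep4_6 : Rep := ⟨5, 1, 0x120907080600161415130c0d0a0b0402030117110f100e05, 5, 0x700080005000a⟩
def rep4_7 : Rep := ⟨6, 0, 0x50402030100110f100e0c0d0a0b09070806171614151312, 6, 0x600080009000a⟩
def part4_0 : List Rep := [rep4_0, rep4_1, rep4_2, rep4_3, rep4_4, rep4_5, rep4_6, rep4_7]

/-- Step 4. -/
def lev4 : Lev := ⟨[3, 1, 2, 0], 0x3ffc0, part4_0⟩

/-- The chain, top step first. -/
def chain : List Lev := [lev4, lev3, lev2, lev1]

end Cfsg.Agent.Chevalley.Data.WD4
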