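import Cfsg.Agent.Lib.Chevalley.WeylEnum

/-!
Minimal coset representatives along a chain of parabolic subgroups, type G2 (data, validated by the
checks of `Types.WG2`).
-/

set_option autoImplicit false

namespace Cfsg.Agent.Chevalley.Data.WG2

open Cfsg.Agent.Chevalley.WeylEnum

def rep1_0 : Rep := ⟨0, 0, 0xb0a09080706050403020100, 0, 0x1⟩
def rep1_1 : Rep := ⟨0, 1, 0xa0b09070805060304020001, 1, 0x0⟩
def part1_0 : List Rep := [rep1_0, rep1_1]

/-- Step 1. -/
def lev1 : Lev := ⟨[1], 0x0, part1_0⟩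

def rep2_0 : Rep := ⟨0, 0, 0xb0a09080706050403020100, 0, 0x10006⟩
def rep2_1 : Rep := ⟨0, 0, 0xb060809040a010702030500, 1, 0x2⟩
def rep2_2 : Rep := ⟨1, 1, 0xa050709030b000802040601, 2, 0x30001⟩
def rep2_3 : Rep := ⟨2, 0, 0x6010408020b000903070a05, 3, 0x20004⟩
def rep2_4 : Rep := ⟨3, 1, 0x5000307020a010904080b06, 4, 0x50003⟩
def rep2_5 : Rep := ⟨4, 0, 0x10002040306050807090b0a, 5, 0x40006⟩
def part2_0 : List Rep := [rep2_0, rep2_1, rep2_2, rep2_3, rep2_4, rep2_5]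

/-- Step 2. -/
def lev2 : Lev := ⟨[1, 0], 0x60, part2_0⟩

/-- The chain, top step first. -/
def chain : List Lev := [lev2, lev1]

end Cfsg.Agent.Chevalley.Data.WG2
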